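import Cfsg.Agent.Lib.Linear.ShortPres.SLN.Mat
import Cfsg.Agent.S2401
import Cfsg.Agent.S2278
import Cfsg.Agent.S2286

/-!
# Special linear groups of every degree at least four: boundedly many relators
-/

set_option autoImplicit false

namespace Cfsg.Lib.Linear.ShortPres.SLN

open Equiv Matrix
open scoped MatrixGroups

variable {F : Type*} [Field F]

/-- `SL₂` inside `SL₃`. -/
def rho : SL(2, F) →* SL(3, F) :=
  (rex (finSumFinEquiv : Fin 2 ⊕ Fin 1 ≃ Fin 3)).toMonoidHom.comp (blk (Fin 1))

theorem rho_T {i j : Fin 2} (h : i ≠ j) (t : F) :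
    rho (T h t) = T (show Fin.castAdd 1 i ≠ Fin.castAdd 1 j from (Fin.castAdd_injective 2 1).ne h) t := by
  show rex _ (blk (Fin 1) (T h t)) = _
  rw [blk_T, rex_T]
  rfl

variable (d : ℕ)

/-- The points. -/
abbrev Pt : Type := Fin 3 ⊕ Fin (d + 1)

set_option maxHeartbeats 2000000 in
theorem bdd_SL [Fintype F] : Bdd (SpecialLinearGroup (Pt d) F) 74 := by
  classical
  obtain ⟨p, hp⟩ := CharP.exists F
  haveI : Fact p.Prime := ⟨CharP.char_is_prime F p⟩
  obtain ⟨R3, hR3, he3⟩ := Three.present_SL_three (F := F) p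
  have h3 : Bdd SL(3, F) 14 := ⟨4, R3, hR3, he3⟩
  obtain ⟨u₀, g₀, -, -, hgen3⟩ := Cfsg.Agent.S2278.result (F := F)
  obtain ⟨⟨R2, -, ⟨e2⟩⟩, -, -⟩ := Cfsg.Agent.S2286.result (F := F)
  let s2 : Fin 3 → SL(2, F) := fun k => e2 (PresentedGroup.of k)
  have hs2 : Subgroup.closure (Set.range s2) = ⊤ := by
    rw [show s2 = ⇑e2.toMonoidHom ∘ PresentedGroup.of from rfl, Set.range_comp, ← MonoidHom.map_closure,
      PresentedGroup.closure_range_of]
    exact Subgroup.map_top_of_surjective _ e2.surjective
  obtain ⟨q₁, q₂, hq⟩ := Alt.two_gen (Fin (d + 1))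
  obtain ⟨i0, hi0⟩ : ∃ x : Pt d, x = Sum.inl 0 := ⟨_, rfl⟩
  obtain ⟨i1, hi1⟩ : ∃ x : Pt d, x = Sum.inl 1 := ⟨_, rfl⟩
  obtain ⟨i2, hi2⟩ : ∃ x : Pt d, x = Sum.inl 2 := ⟨_, rfl⟩
  obtain ⟨r0, hr0⟩ : ∃ x : Pt d, x = Sum.inr 0 := ⟨_, rfl⟩
  have n01 : i0 ≠ i1 := by simp [hi0, hi1]
  have n02 : i0 ≠ i2 := by simp [hi0, hi2]
  have n12 : i1 ≠ i2 := by simp [hi1, hi2]
  have n0r : i0 ≠ r0 := by simp [hi0, hr0]
  have n1r : i1 ≠ r0 := by simp [hi1, hr0]
  have n2r : i2 ≠ r0 := by simp [hi2, hr0]
  let two : ∀ a b c e : Pt d, a ≠ b → c ≠ e → alternatingGroup (Pt d) := fun a b c e hab hce =>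
    ⟨swap a b * swap c e, Perm.mem_alternatingGroup.2 (by
      rw [Perm.sign_mul, Perm.sign_swap hab, Perm.sign_swap hce]; rfl)⟩
  let cA : alternatingGroup (Fin 3) := ⟨swap 0 1 * swap 1 2, Perm.mem_alternatingGroup.2 (by decide)⟩
  let c3 : alternatingGroup (Pt d) := Alt.extA Function.Embedding.inl cA
  have hc3 : ∀ a, c3.1 (Sum.inl a) = Sum.inl (cA.1 a) := fun a => Alt.extA_apply _ cA a
  let w2 : alternatingGroup (Pt d) := two i0 i1 i2 r0 n01 n2r
  let s5 : alternatingGroup (Pt d) := two i0 i2 i1 r0 n02 n1r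
  obtain ⟨w, s, hw, hwd⟩ : ∃ (w : alternatingGroup (Pt d)) (s : Perm (Fin 3)),
      (∀ a, w.1 (Sum.inl a) = Sum.inl (s a)) ∧
        (0 < d → s = swap 0 1 ∧ w.1 = swap (Sum.inl 0) (Sum.inl 1) * swap (Sum.inr 0) (Sum.inr 1)) := by
    rcases Nat.eq_zero_or_pos d with hd | hd
    · exact ⟨1, 1, fun a => rfl, fun h => absurd hd h.ne'⟩
    · have h01 : (0 : Fin (d + 1)) ≠ 1 := by
        intro e
        have := congrArg Fin.val e
        rw [Fin.val_zero, Fin.val_one', Nat.mod_eq_of_lt (by omega)] at this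
        exact absurd this (by decide)
      refine ⟨two (Sum.inl 0) (Sum.inl 1) (Sum.inr 0) (Sum.inr 1) (by simp) (by simp [h01]), swap 0 1,
        fun a => ?_, fun _ => ⟨rfl, rfl⟩⟩
      show (swap (Sum.inl 0) (Sum.inl 1) * swap (Sum.inr 0) (Sum.inr 1) : Perm (Pt d)) (Sum.inl a) = _
      rw [Perm.mul_apply, swap_apply_of_ne_of_ne (show (Sum.inl a : Pt d) ≠ Sum.inr 0 by simp)
        (show (Sum.inl a : Pt d) ≠ Sum.inr 1 by simp), Sum.inl_injective.swap_apply]
  have hw20 : w2.1 i0 = i1 := by
    simp [w2, two, Perm.mul_apply, swap_apply_def, n01, n02, n0r]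
  have hw21 : w2.1 i1 = i0 := by
    simp [w2, two, Perm.mul_apply, swap_apply_def, n01.symm, n12, n1r]
  have hw22 : w2.1 i2 = r0 := by
    simp [w2, two, Perm.mul_apply, swap_apply_def, n02.symm, n12.symm, n0r.symm, n1r.symm]
  have hs50 : s5.1 i0 = i2 := by
    simp [s5, two, Perm.mul_apply, swap_apply_def, n01, n0r, n02]
  have hs51 : s5.1 i1 = r0 := by
    simp [s5, two, Perm.mul_apply, swap_apply_def, n1r, n0r.symm, n2r.symm]
  let rs : Fin 2 ≃ Fin 2 := swap 0 1
  let A' : SL(3, F) → FreeGroup (SL(3, F) ⊕ alternatingGroup (Pt d)) := fun g => FreeGroup.of (Sum.inl g)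
  let B' : alternatingGroup (Pt d) → FreeGroup (SL(3, F) ⊕ alternatingGroup (Pt d)) := fun g => FreeGroup.of (Sum.inr g)
  let L : List (FreeGroup (SL(3, F) ⊕ alternatingGroup (Pt d)) × FreeGroup (SL(3, F) ⊕ alternatingGroup (Pt d))) :=
    ([q₁, q₂].flatMap fun q => [u₀, g₀ * u₀ * g₀⁻¹].map fun g =>
        (B' (Alt.extA Function.Embedding.inr q) * A' g, A' g * B' (Alt.extA Function.Embedding.inr q))) ++
      [(B' c3, A' (pm cA))] ++
      ([u₀, g₀ * u₀ * g₀⁻¹].map fun g => (B' w * A' g * (B' w)⁻¹, A' (rex s g))) ++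
      ((List.finRange 3).map fun k => (B' w2 * A' (rho (s2 k)) * (B' w2)⁻¹, A' (rho (rex rs (s2 k))))) ++
      ((List.finRange 3).flatMap fun k => (List.finRange 3).map fun l =>
        (A' (rho (s2 k)) * (B' s5 * A' (rho (s2 l)) * (B' s5)⁻¹),
          B' s5 * A' (rho (s2 l)) * (B' s5)⁻¹ * A' (rho (s2 k))))
  -- the action of the permutations in the matrix group
  have hM : ∀ (π : alternatingGroup (Pt d)) (a b a' b' : Fin 3) (h : a ≠ b) (h' : a' ≠ b') (t : F),
      π.1 (Sum.inl a) = Sum.inl a' → π.1 (Sum.inl b) = Sum.inl b' →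
      pm π * blk (Fin (d + 1)) (T h t) * (pm π)⁻¹ = (blk (Fin (d + 1)) (T h' t) : SpecialLinearGroup (Pt d) F) := by
    intro π a b a' b' h h' t e1 e2
    rw [blk_T, blk_T, pm_conj_T]
    exact T_congr _ t e1 e2
  have hcast : ∀ i : Fin 2, (Sum.inl (Fin.castAdd 1 i) : Pt d) = if i = 0 then i0 else i1 := fun i => by
    fin_cases i <;> simp [hi0, hi1]
  refine ((h3.combine (Alt.bdd_alt (d + 4) |>.of_equiv (Alt.nonempty_congr (Fintype.equivFinOfCardEq
    (show Fintype.card (Pt d) = d + 4 by simp only [Fintype.card_sum, Fintype.card_fin]; omega)).symm).choose)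
    (blk (Fin (d + 1))) pm ?_ L ?_ ?_)).mono (by simp [L, List.length_flatMap])
  · rw [eq_top_iff, ← Cfsg.Lib.Linear.closure_transvection_eq_top (ι := Pt d) (F := F), Subgroup.closure_le]
    rintro _ ⟨i, j, hij, t, rfl⟩
    let π₁ : Perm (Pt d) := swap (swap i0 i i1) j * swap i0 i
    have hne : swap i0 i i1 ≠ i := by
      intro e
      have := (swap i0 i).injective (e.trans (swap_apply_left i0 i).symm)
      exact n01 this.symm
    obtain ⟨π, hπ⟩ := exists_even π₁ n2r
    have e0 : π₁ i0 = i := by
      simp only [π₁, Perm.mul_apply, swap_apply_left]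
      exact swap_apply_of_ne_of_ne hne.symm hij
    have e1 : π₁ i1 = j := by
      simp only [π₁, Perm.mul_apply, swap_apply_left]
    have e0' : π.1 i0 = i := by
      rcases hπ with h | h <;> rw [h]
      · exact e0
      · rw [Perm.mul_apply, swap_apply_of_ne_of_ne n02 n0r, e0]
    have e1' : π.1 i1 = j := by
      rcases hπ with h | h <;> rw [h]
      · exact e1
      · rw [Perm.mul_apply, swap_apply_of_ne_of_ne n12 n1r, e1]
    have : T hij t = pm π * blk (Fin (d + 1)) (T (show (0 : Fin 3) ≠ 1 by decide) t) * (pm π)⁻¹ := by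
      rw [blk_T, pm_conj_T]
      exact T_congr _ t (by rw [← e0', hi0]) (by rw [← e1', hi1])
    show T hij t ∈ _
    rw [this]
    exact mul_mem (mul_mem (Subgroup.subset_closure (Or.inr ⟨π, rfl⟩)) (Subgroup.subset_closure (Or.inl ⟨_, rfl⟩)))
      (inv_mem (Subgroup.subset_closure (Or.inr ⟨π, rfl⟩)))
  · simp only [L, List.forall_mem_append, List.forall_mem_flatMap, List.forall_mem_map, List.forall_mem_singleton,
      A', B', map_mul, map_inv, FreeGroup.lift_apply_of, Sum.elim_inl, Sum.elim_inr]
    refine ⟨⟨⟨⟨fun q _ g _ => ?_, pm_extA_inl cA⟩, fun g _ => ?_⟩, fun k _ => ?_⟩, fun k _ l _ => ?_⟩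
    · have h : (MulAut.conj (pm (Alt.extA Function.Embedding.inr q) : SpecialLinearGroup (Pt d) F)).toMonoidHom.comp
          (blk (Fin (d + 1))) = blk (Fin (d + 1)) := hom_ext fun a b hab t => by
        refine hM _ a b a b hab hab t ?_ ?_ <;> exact Alt.extA_apply_of_notMem _ q (by simp)
      have h' := DFunLike.congr_fun h g
      simp only [MonoidHom.comp_apply, MulEquiv.coe_toMonoidHom, MulAut.conj_apply] at h'
      exact mul_inv_eq_iff_eq_mul.1 h'
    · have h : (MulAut.conj (pm w : SpecialLinearGroup (Pt d) F)).toMonoidHom.comp (blk (Fin (d + 1))) =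
          (blk (Fin (d + 1))).comp (rex s).toMonoidHom := hom_ext fun a b hab t => by
        simp only [MonoidHom.comp_apply, MulEquiv.coe_toMonoidHom, MulAut.conj_apply]
        rw [rex_T]
        exact hM _ a b _ _ hab _ t (hw a) (hw b)
      exact DFunLike.congr_fun h g
    · have h : (MulAut.conj (pm w2 : SpecialLinearGroup (Pt d) F)).toMonoidHom.comp ((blk (Fin (d + 1))).comp rho) =
          ((blk (Fin (d + 1))).comp rho).comp (rex rs).toMonoidHom := hom_ext fun a b hab t => by
        simp only [MonoidHom.comp_apply, MulEquiv.coe_toMonoidHom, MulAut.conj_apply]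
        rw [rex_T, rho_T, rho_T]
        refine hM _ _ _ _ _ _ _ t ?_ ?_
        · rw [hcast, hcast]; fin_cases a <;> simp [rs, hw20, hw21]
        · rw [hcast, hcast]; fin_cases b <;> simp [rs, hw20, hw21]
      exact DFunLike.congr_fun h (s2 k)
    · refine commute_of_sets ((blk (Fin (d + 1))).comp rho : SL(2, F) →* SpecialLinearGroup (Pt d) F)
        ((MulAut.conj (pm s5 : SpecialLinearGroup (Pt d) F)).toMonoidHom.comp ((blk (Fin (d + 1))).comp rho))
        (Cfsg.Lib.Linear.closure_transvection_eq_top (ι := Fin 2) (F := F))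
        (Cfsg.Lib.Linear.closure_transvection_eq_top (ι := Fin 2) (F := F)) ?_ (s2 k) (s2 l)
      rintro _ ⟨a, b, hab, t, rfl⟩ _ ⟨a', b', hab', u, rfl⟩
      simp only [MonoidHom.comp_apply, MulEquiv.coe_toMonoidHom, MulAut.conj_apply]
      rw [rho_T, rho_T, blk_T, blk_T, pm_conj_T]
      refine T_comm _ _ ?_ ?_ t u <;> rw [hcast, hcast] <;> fin_cases a <;> fin_cases b <;> fin_cases a' <;> fin_cases b' <;>
        simp [hs50, hs51, n02, n0r, n12, n1r, n02.symm, n0r.symm, n12.symm, n1r.symm] at *
  · intro G _ A B hgen hrel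
    simp only [L, List.forall_mem_append, List.forall_mem_flatMap, List.forall_mem_map, List.forall_mem_singleton,
      A', B', map_mul, map_inv, FreeGroup.lift_apply_of, Sum.elim_inl, Sum.elim_inr] at hrel
    obtain ⟨⟨⟨⟨r1, r2⟩, r3⟩, r4⟩, r5⟩ := hrel
    have hA2 : ∀ S : Subgroup SL(3, F), u₀ ∈ S → g₀ * u₀ * g₀⁻¹ ∈ S → ∀ g, g ∈ S := fun S h1 h2 g => by
      refine (?_ : Subgroup.closure ({u₀, g₀ * u₀ * g₀⁻¹} : Set SL(3, F)) ≤ S) (hgen3 ▸ Subgroup.mem_top g)
      rw [Subgroup.closure_le]
      rintro x (rfl | rfl)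
      exacts [h1, h2]
    -- the permutations of the other points
    have hc : ∀ q g, B (Alt.extA Function.Embedding.inr q) * A g = A g * B (Alt.extA Function.Embedding.inr q) :=
      commute_of_sets (B.comp (Alt.extA Function.Embedding.inr)) A hq hgen3 (by
        intro q hqm g hgm
        exact r1 q (by simpa using hqm) g (by simpa using hgm))
    have hw' : ∀ g, B w * A g * (B w)⁻¹ = A (rex s g) := by
      have h : (MulAut.conj (B w)).toMonoidHom.comp A = A.comp (rex s).toMonoidHom :=
        MonoidHom.eq_of_eqOn_dense hgen3 (by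
          intro g hgm
          exact r3 g (by simpa using hgm))
      exact fun g => DFunLike.congr_fun h g
    have hw2' : ∀ h, B w2 * A (rho h) * (B w2)⁻¹ = A (rho (rex rs h)) := by
      have h : (MulAut.conj (B w2)).toMonoidHom.comp (A.comp rho) = (A.comp rho).comp (rex rs).toMonoidHom :=
        MonoidHom.eq_of_eqOn_dense hs2 (by
          rintro _ ⟨k, rfl⟩
          exact r4 k (List.mem_finRange k))
      exact fun x => DFunLike.congr_fun h x
    have h5 : ∀ h h', A (rho h) * (B s5 * A (rho h') * (B s5)⁻¹) = B s5 * A (rho h') * (B s5)⁻¹ * A (rho h) :=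
      commute_of_sets (A.comp rho) ((MulAut.conj (B s5)).toMonoidHom.comp (A.comp rho)) hs2 hs2 (by
        rintro _ ⟨k, rfl⟩ _ ⟨l, rfl⟩
        exact r5 k (List.mem_finRange k) l (List.mem_finRange l))
    -- the stabiliser of the first two points
    have hfix : ∀ π : alternatingGroup (Pt d), π.1 i0 = i0 → π.1 i1 = i1 →
        ∀ h, B π * A (rho h) * (B π)⁻¹ = A (rho h) := by
      let Z : Subgroup (alternatingGroup (Pt d)) := (Subgroup.centralizer (Set.range (A.comp rho))).comap B
      have hZ : ∀ π, π ∈ Z ↔ ∀ h, B π * A (rho h) = A (rho h) * B π := fun π => by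
        simp only [Z, Subgroup.mem_comap, Subgroup.mem_centralizer_iff, Set.forall_mem_range, MonoidHom.comp_apply]
        exact forall_congr' fun h => eq_comm
      have hq' : ∀ q, Alt.extA Function.Embedding.inr q ∈ Z := fun q => (hZ _).2 fun h => hc q _
      have hv : 0 < d → w2 * w ∈ Z := fun hd => by
        refine (hZ _).2 fun h => mul_inv_eq_iff_eq_mul.1 ?_
        obtain ⟨hs, -⟩ := hwd hd
        have hswap : ∀ x : SL(2, F), rex s (rho x) = rho (rex rs x) := by
          have e : (rex s).toMonoidHom.comp rho = rho.comp (rex (F := F) rs).toMonoidHom := hom_ext fun a b hab t => by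
            simp only [MonoidHom.comp_apply, MulEquiv.coe_toMonoidHom]
            rw [rex_T, rho_T, rho_T, rex_T]
            refine T_congr _ t ?_ ?_
            · subst hs; fin_cases a <;> simp [rs]
            · subst hs; fin_cases b <;> simp [rs]
          exact fun x => DFunLike.congr_fun e x
        have hrr : rex rs (rex rs h) = h := by
          refine Subtype.ext ?_
          ext a b
          simp [rex_coe, rs]
        calc B (w2 * w) * A (rho h) * (B (w2 * w))⁻¹ = B w2 * (B w * A (rho h) * (B w)⁻¹) * (B w2)⁻¹ := by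
              simp [mul_assoc]
          _ = A (rho h) := by rw [hw', hswap, hw2', hrr]
      intro π e0 e1 h
      rw [mul_inv_eq_iff_eq_mul]
      refine (hZ π).1 ?_ h
      -- reduce to permutations fixing the three points
      suffices hu : ∃ u ∈ Z, u.1 i0 = i0 ∧ u.1 i1 = i1 ∧ u.1 i2 = π.1 i2 by
        obtain ⟨u, huZ, u0, u1, u2⟩ := hu
        have key : u⁻¹ * π ∈ Z := by
          obtain ⟨v, hv'⟩ := exists_extA Function.Embedding.inr (u⁻¹ * π) (fun b hb => by
            rcases b with a | r
            · rw [Subgroup.coe_mul, Subgroup.coe_inv, Perm.mul_apply, Perm.inv_eq_iff_eq]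
              fin_cases a
              · show π.1 (Sum.inl 0) = u.1 (Sum.inl 0)
                rw [← hi0, e0, u0]
              · show π.1 (Sum.inl 1) = u.1 (Sum.inl 1)
                rw [← hi1, e1, u1]
              · show π.1 (Sum.inl 2) = u.1 (Sum.inl 2)
                rw [← hi2, u2]
            · exact absurd ⟨r, rfl⟩ hb)
          rw [← hv']
          exact hq' v
        have := mul_mem huZ key
        rwa [mul_inv_cancel_left] at this
      rcases hx : π.1 i2 with a | r
      · refine ⟨1, one_mem _, rfl, rfl, ?_⟩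
        fin_cases a
        · exact absurd (π.1.injective (show π.1 i2 = π.1 i0 by rw [e0, hx, hi0]; rfl)) n02.symm
        · exact absurd (π.1.injective (show π.1 i2 = π.1 i1 by rw [e1, hx, hi1]; rfl)) n12.symm
        · exact hi2
      · rcases Nat.eq_zero_or_pos d with hd | hd
        · exfalso
          subst hd
          have hr : r = 0 := Fin.fin_one_eq_zero r
          subst hr
          rw [← hr0] at hx
          have hpr : π.1 r0 = i2 := by
            rcases hy : π.1 r0 with a | r
            · fin_cases a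
              · exact absurd (π.1.injective (show π.1 r0 = π.1 i0 by rw [e0, hy, hi0]; rfl)) n0r.symm
              · exact absurd (π.1.injective (show π.1 r0 = π.1 i1 by rw [e1, hy, hi1]; rfl)) n1r.symm
              · exact hi2.symm
            · exact absurd (π.1.injective (show π.1 r0 = π.1 i2 by
                rw [hy, hx, hr0, Fin.fin_one_eq_zero r])) n2r.symm
          have hπ : π.1 = swap i2 r0 := Equiv.ext fun x => by
            rcases x with a | r
            · fin_cases a
              · show π.1 (Sum.inl 0) = swap i2 r0 (Sum.inl 0)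
                rw [← hi0, e0, swap_apply_of_ne_of_ne n02 n0r]
              · show π.1 (Sum.inl 1) = swap i2 r0 (Sum.inl 1)
                rw [← hi1, e1, swap_apply_of_ne_of_ne n12 n1r]
              · show π.1 (Sum.inl 2) = swap i2 r0 (Sum.inl 2)
                rw [← hi2, hx, swap_apply_left]
            · rw [Fin.fin_one_eq_zero r]
              show π.1 (Sum.inr (0 : Fin (0 + 1))) = swap i2 r0 (Sum.inr (0 : Fin (0 + 1)))
              rw [← hr0, hpr, swap_apply_right]
          have := Perm.mem_alternatingGroup.1 π.2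
          rw [hπ, Perm.sign_swap n2r] at this
          exact absurd this (by decide)
        · obtain ⟨-, hwv⟩ := hwd hd
          have h01 : (0 : Fin (d + 1)) ≠ 1 := by
            intro e
            have := congrArg Fin.val e
            rw [Fin.val_zero, Fin.val_one', Nat.mod_eq_of_lt (by omega)] at this
            exact absurd this (by decide)
          have hv0 : (w2 * w).1 i0 = i0 := by
            rw [Subgroup.coe_mul, Perm.mul_apply, hwv]
            simp [w2, two, hi0, hi1, hi2, hr0, Perm.mul_apply, swap_apply_def]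
          have hv1 : (w2 * w).1 i1 = i1 := by
            rw [Subgroup.coe_mul, Perm.mul_apply, hwv]
            simp [w2, two, hi0, hi1, hi2, hr0, Perm.mul_apply, swap_apply_def]
          have hv2 : (w2 * w).1 i2 = Sum.inr 0 := by
            rw [Subgroup.coe_mul, Perm.mul_apply, hwv]
            simp [w2, two, hi0, hi1, hi2, hr0, Perm.mul_apply, swap_apply_def]
          have hvr : (w2 * w).1 (Sum.inr 0) = Sum.inr 1 := by
            rw [Subgroup.coe_mul, Perm.mul_apply, hwv]
            simp [w2, two, hi0, hi1, hi2, hr0, Perm.mul_apply, swap_apply_def, h01, h01.symm]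
          rcases eq_or_ne r 0 with rfl | hr
          · exact ⟨_, hv hd, hv0, hv1, hv2⟩
          rcases eq_or_ne r 1 with rfl | hr'
          · exact ⟨_, mul_mem (hv hd) (hv hd), by rw [Subgroup.coe_mul, Perm.mul_apply, hv0, hv0],
              by rw [Subgroup.coe_mul, Perm.mul_apply, hv1, hv1], by rw [Subgroup.coe_mul, Perm.mul_apply, hv2, hvr]⟩
          let u' : alternatingGroup (Fin (d + 1)) := ⟨swap r 1 * swap 0 1, Perm.mem_alternatingGroup.2 (by
            rw [Perm.sign_mul, Perm.sign_swap hr', Perm.sign_swap h01]; rfl)⟩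
          refine ⟨_, mul_mem (hq' u') (hv hd), ?_, ?_, ?_⟩
          · rw [Subgroup.coe_mul, Perm.mul_apply, hv0, hi0]
            exact Alt.extA_apply_of_notMem _ _ (by simp)
          · rw [Subgroup.coe_mul, Perm.mul_apply, hv1, hi1]
            exact Alt.extA_apply_of_notMem _ _ (by simp)
          · rw [Subgroup.coe_mul, Perm.mul_apply, hv2]
            refine (Alt.extA_apply Function.Embedding.inr u' 0).trans (congrArg Sum.inr ?_)
            show (swap r 1 * swap 0 1 : Perm (Fin (d + 1))) 0 = r
            rw [Perm.mul_apply, swap_apply_left, swap_apply_right]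
    -- the root elements
    have h01 : (0 : Fin 2) ≠ 1 := by decide
    have hpi : ∀ i j : Pt d, i ≠ j → ∃ π : alternatingGroup (Pt d), π.1 i0 = i ∧ π.1 i1 = j := by
      intro i j hij
      let π₁ : Perm (Pt d) := swap (swap i0 i i1) j * swap i0 i
      have hne : swap i0 i i1 ≠ i := by
        intro e
        have := (swap i0 i).injective (e.trans (swap_apply_left i0 i).symm)
        exact n01 this.symm
      obtain ⟨π, hπ⟩ := exists_even π₁ n2r
      have e0 : π₁ i0 = i := by
        simp only [π₁, Perm.mul_apply, swap_apply_left]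
        exact swap_apply_of_ne_of_ne hne.symm hij
      have e1 : π₁ i1 = j := by
        simp only [π₁, Perm.mul_apply, swap_apply_left]
      refine ⟨π, ?_, ?_⟩ <;> rcases hπ with h | h <;> rw [h]
      · exact e0
      · rw [Perm.mul_apply, swap_apply_of_ne_of_ne n02 n0r, e0]
      · exact e1
      · rw [Perm.mul_apply, swap_apply_of_ne_of_ne n12 n1r, e1]
    choose π hπ0 hπ1 using hpi
    let X : Pt d → Pt d → F → G := fun i j t =>
      if h : i ≠ j then B (π i j h) * A (rho (T h01 t)) * (B (π i j h))⁻¹ else 1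
    have hX : ∀ (u : alternatingGroup (Pt d)) (t : F),
        B u * A (rho (T h01 t)) * (B u)⁻¹ = X (u.1 i0) (u.1 i1) t := by
      intro u t
      have hne : u.1 i0 ≠ u.1 i1 := u.1.injective.ne n01
      simp only [X, dif_pos hne]
      have h := hfix ((π _ _ hne)⁻¹ * u) (by rw [Subgroup.coe_mul, Subgroup.coe_inv, Perm.mul_apply,
        Perm.inv_eq_iff_eq, hπ0]) (by rw [Subgroup.coe_mul, Subgroup.coe_inv, Perm.mul_apply,
        Perm.inv_eq_iff_eq, hπ1]) (T h01 t)
      calc B u * A (rho (T h01 t)) * (B u)⁻¹ = B (π _ _ hne) * (B ((π _ _ hne)⁻¹ * u) * A (rho (T h01 t)) *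
            (B ((π _ _ hne)⁻¹ * u))⁻¹) * (B (π _ _ hne))⁻¹ := by simp [mul_assoc]
        _ = _ := by rw [h]
    have hequiv : ∀ (u : alternatingGroup (Pt d)) (i j : Pt d) (t : F), i ≠ j →
        B u * X i j t * (B u)⁻¹ = X (u.1 i) (u.1 j) t := by
      intro u i j t hij
      have := hX (u * π i j hij) t
      rw [Subgroup.coe_mul, Perm.mul_apply, Perm.mul_apply, hπ0, hπ1] at this
      rw [← this]
      simp only [X, dif_pos hij]
      simp [mul_assoc]
    have hb01 : ∀ t, A (rho (T h01 t)) = X i0 i1 t := fun t => by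
      have := hX 1 t
      simpa using this
    have hb10 : ∀ t, A (rho (T h01.symm t)) = X i1 i0 t := fun t => by
      have := hX w2 t
      rw [hw20, hw21, hw2', rex_T] at this
      rw [← this]
      congr 2
    have hcyc : ∀ a b : Fin 3, ∀ (h : a ≠ b) t, A (T h t) = X (Sum.inl a) (Sum.inl b) t →
        A (T (cA.1.injective.ne h) t) = X (Sum.inl (cA.1 a)) (Sum.inl (cA.1 b)) t := fun a b h t e => by
      rw [← hc3, ← hc3, ← hequiv c3 _ _ t (Sum.inl_injective.ne h), ← e, r2, ← map_inv, ← map_mul, ← map_mul,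
        pm_conj_T]
    have hbase : ∀ a b : Fin 3, ∀ (h : a ≠ b) t, A (T h t) = X (Sum.inl a) (Sum.inl b) t := by
      intro a b h t
      have k01 : A (T (show (0 : Fin 3) ≠ 1 by decide) t) = X (Sum.inl 0) (Sum.inl 1) t := by
        rw [← hi0, ← hi1, ← hb01, rho_T]
      have k10 : A (T (show (1 : Fin 3) ≠ 0 by decide) t) = X (Sum.inl 1) (Sum.inl 0) t := by
        rw [← hi0, ← hi1, ← hb10, rho_T]
      have c0 : cA.1 0 = 1 := by decide
      have c1 : cA.1 1 = 2 := by decide
      have c2 : cA.1 2 = 0 := by decide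
      have k12 := hcyc _ _ _ t k01
      have k20 := hcyc _ _ _ t k12
      have k21 := hcyc _ _ _ t k10
      have k02 := hcyc _ _ _ t k21
      fin_cases a <;> fin_cases b <;> first
        | exact absurd rfl h
        | exact k01
        | exact k10
        | exact k12
        | exact k20
        | exact k21
        | exact k02
    -- every three points are conjugate to the first three
    have htri : ∀ f : Fin 3 ↪ Pt d, ∃ (u : alternatingGroup (Pt d)) (σ : Perm (Fin 3)),
        ∀ a, u.1 (Sum.inl (σ a)) = f a := by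
      intro f
      let u₀' : Perm (Pt d) := (π (f 0) (f 1) (f.injective.ne (by decide))).1
      let u₁ : Perm (Pt d) := swap (u₀' i2) (f 2) * u₀'
      have e0 : u₁ i0 = f 0 := by
        show swap (u₀' i2) (f 2) (u₀' i0) = f 0
        rw [swap_apply_of_ne_of_ne (u₀'.injective.ne n02) (by rw [show u₀' i0 = f 0 from hπ0 _ _ _]; exact f.injective.ne (by decide))]
        exact hπ0 _ _ _
      have e1 : u₁ i1 = f 1 := by
        show swap (u₀' i2) (f 2) (u₀' i1) = f 1
        rw [swap_apply_of_ne_of_ne (u₀'.injective.ne n12) (by rw [show u₀' i1 = f 1 from hπ1 _ _ _]; exact f.injective.ne (by decide))]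
        exact hπ1 _ _ _
      have e2 : u₁ i2 = f 2 := by
        show swap (u₀' i2) (f 2) (u₀' i2) = f 2
        rw [swap_apply_left]
      obtain ⟨u, hu⟩ := exists_even u₁ n01
      rcases hu with hu | hu
      · refine ⟨u, 1, fun a => ?_⟩
        rw [hu, Perm.one_apply]
        fin_cases a
        exacts [hi0 ▸ e0, hi1 ▸ e1, hi2 ▸ e2]
      · refine ⟨u, swap 0 1, fun a => ?_⟩
        rw [hu, Perm.mul_apply]
        fin_cases a
        · show u₁ (swap i0 i1 (Sum.inl (swap (0 : Fin 3) 1 0))) = f 0
          rw [swap_apply_left, ← hi1, swap_apply_right, e0]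
        · show u₁ (swap i0 i1 (Sum.inl (swap (0 : Fin 3) 1 1))) = f 1
          rw [swap_apply_right, ← hi0, swap_apply_left, e1]
        · show u₁ (swap i0 i1 (Sum.inl (swap (0 : Fin 3) 1 2))) = f 2
          rw [show swap (0 : Fin 3) 1 2 = 2 by decide, ← hi2, swap_apply_of_ne_of_ne n02.symm n12.symm, e2]
    have hconj : ∀ (f : Fin 3 ↪ Pt d), ∃ (φ : SL(3, F) →* G), ∀ (a b : Fin 3) (h : a ≠ b) (t : F),
        X (f a) (f b) t = φ (T h t) := by
      intro f
      obtain ⟨u, σ, hu⟩ := htri f
      refine ⟨((MulAut.conj (B u)).toMonoidHom.comp A).comp (rex σ).toMonoidHom, fun a b h t => ?_⟩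
      simp only [MonoidHom.comp_apply, MulEquiv.coe_toMonoidHom, MulAut.conj_apply]
      rw [rex_T, hbase, hequiv u _ _ t (Sum.inl_injective.ne (σ.injective.ne h)), hu, hu]
    have hcover : ∀ S : Finset (Pt d), S.card ≤ 3 → ∃ f : Fin 3 ↪ Pt d, ∀ x ∈ S, ∃ a, f a = x := by
      intro S hS
      obtain ⟨S', hSS', -, hc⟩ := Finset.exists_subsuperset_card_eq (Finset.subset_univ S) hS (by
        simp only [Finset.card_univ, Fintype.card_sum, Fintype.card_fin]; omega)
      exact ⟨(S'.equivFinOfCardEq hc).symm.toEmbedding.trans (Function.Embedding.subtype _),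
        fun x hx => ⟨S'.equivFinOfCardEq hc ⟨x, hSS' hx⟩, by simp⟩⟩
    have rAdd : ∀ i j, i ≠ j → ∀ t u : F, X i j t * X i j u = X i j (t + u) := fun i j hij t u => by
      simp only [X, dif_pos hij]
      rw [← T_add, map_mul, map_mul]
      simp [mul_assoc]
    have rComm : ∀ i j k l, i ≠ j → k ≠ l → i ≠ l → j ≠ k → ∀ t u : F, X i j t * X k l u = X k l u * X i j t := by
      intro i j k l hij hkl hil hjk t u
      by_cases h4 : i ≠ k ∧ j ≠ l
      · obtain ⟨hik, hjl⟩ := h4
        let u₀' : Perm (Pt d) := (π i j hij).1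
        let u₁ : Perm (Pt d) := swap (u₀' i2) k * u₀'
        let u₂ : Perm (Pt d) := swap (u₁ r0) l * u₁
        have a0 : u₁ i0 = i := by
          show swap (u₀' i2) k (u₀' i0) = i
          rw [swap_apply_of_ne_of_ne (u₀'.injective.ne n02) (by rw [show u₀' i0 = i from hπ0 _ _ _]; exact hik)]
          exact hπ0 _ _ _
        have a1 : u₁ i1 = j := by
          show swap (u₀' i2) k (u₀' i1) = j
          rw [swap_apply_of_ne_of_ne (u₀'.injective.ne n12) (by rw [show u₀' i1 = j from hπ1 _ _ _]; exact hjk)]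
          exact hπ1 _ _ _
        have a2 : u₁ i2 = k := by
          show swap (u₀' i2) k (u₀' i2) = k
          rw [swap_apply_left]
        have b0 : u₂ i0 = i := by
          show swap (u₁ r0) l (u₁ i0) = i
          rw [swap_apply_of_ne_of_ne (u₁.injective.ne n0r) (by rw [a0]; exact hil), a0]
        have b1 : u₂ i1 = j := by
          show swap (u₁ r0) l (u₁ i1) = j
          rw [swap_apply_of_ne_of_ne (u₁.injective.ne n1r) (by rw [a1]; exact hjl), a1]
        have b2 : u₂ i2 = k := by
          show swap (u₁ r0) l (u₁ i2) = k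
          rw [swap_apply_of_ne_of_ne (u₁.injective.ne n2r) (by rw [a2]; exact hkl), a2]
        have b3 : u₂ r0 = l := by
          show swap (u₁ r0) l (u₁ r0) = l
          rw [swap_apply_left]
        obtain ⟨v, hv⟩ := exists_even u₂ n2r
        have k1 : B s5 * A (rho (T h01 u)) * (B s5)⁻¹ = X i2 r0 u := by rw [hX, hs50, hs51]
        have k2 : B s5 * A (rho (T h01.symm u)) * (B s5)⁻¹ = X r0 i2 u := by
          rw [hb10, hequiv s5 _ _ u n01.symm, hs50, hs51]
        have c1 : Commute (X i0 i1 t) (X i2 r0 u) := by rw [← k1, ← hb01]; exact h5 _ _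
        have c2 : Commute (X i0 i1 t) (X r0 i2 u) := by rw [← k2, ← hb01]; exact h5 _ _
        rcases hv with hv | hv
        · have := c1.map (MulAut.conj (B v)).toMonoidHom
          simp only [MulEquiv.coe_toMonoidHom, MulAut.conj_apply] at this
          rw [hequiv v _ _ t n01, hequiv v _ _ u n2r, hv, b0, b1, b2, b3] at this
          exact this
        · have := c2.map (MulAut.conj (B v)).toMonoidHom
          simp only [MulEquiv.coe_toMonoidHom, MulAut.conj_apply] at this
          rw [hequiv v _ _ t n01, hequiv v _ _ u n2r.symm, hv] at this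
          simp only [Perm.mul_apply, swap_apply_left, swap_apply_right, swap_apply_of_ne_of_ne n02 n0r,
            swap_apply_of_ne_of_ne n12 n1r, b0, b1, b2, b3] at this
          exact this
      · have hS : ({i, j, k, l} : Finset (Pt d)).card ≤ 3 := by
          by_cases hik : i = k
          · subst hik
            rw [show ({i, j, i, l} : Finset (Pt d)) = {i, j, l} by ext x; simp; tauto]
            exact Finset.card_le_three
          · have hjl : j = l := by by_contra hne; exact h4 ⟨hik, hne⟩
            subst hjl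
            rw [show ({i, j, k, j} : Finset (Pt d)) = {i, j, k} by ext x; simp; tauto]
            exact Finset.card_le_three
        obtain ⟨f, hf⟩ := hcover _ hS
        obtain ⟨a, rfl⟩ := hf i (by simp)
        obtain ⟨b, rfl⟩ := hf j (by simp)
        obtain ⟨c, rfl⟩ := hf k (by simp)
        obtain ⟨e, rfl⟩ := hf l (by simp)
        obtain ⟨φ, hφ⟩ := hconj f
        have hab : a ≠ b := fun h => hij (congrArg f h)
        have hce : c ≠ e := fun h => hkl (congrArg f h)
        rw [hφ a b hab, hφ c e hce, ← map_mul, ← map_mul,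
          T_comm hab hce (fun h => hil (congrArg f h)) (fun h => hjk (congrArg f h))]
    have rProd : ∀ i j k, i ≠ j → j ≠ k → i ≠ k → ∀ t u : F,
        X i j t * X j k u = X i k (t * u) * X j k u * X i j t := by
      intro i j k hij hjk hik t u
      obtain ⟨f, hf⟩ := hcover {i, j, k} Finset.card_le_three
      obtain ⟨a, rfl⟩ := hf i (by simp)
      obtain ⟨b, rfl⟩ := hf j (by simp)
      obtain ⟨c, rfl⟩ := hf k (by simp)
      obtain ⟨φ, hφ⟩ := hconj f
      have hab : a ≠ b := fun h => hij (congrArg f h)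
      have hbc : b ≠ c := fun h => hjk (congrArg f h)
      have hac : a ≠ c := fun h => hik (congrArg f h)
      rw [hφ a b hab, hφ b c hbc, hφ a c hac, ← map_mul, ← map_mul, ← map_mul, T_prod hab hbc hac]
    -- generation
    let H : Subgroup G := Subgroup.closure {x | ∃ i j t, i ≠ j ∧ x = X i j t}
    have hXH : ∀ i j t, i ≠ j → X i j t ∈ H := fun i j t h => Subgroup.subset_closure ⟨i, j, t, h, rfl⟩
    have hAH : ∀ g, A g ∈ H := fun g => by
      refine (?_ : Subgroup.closure {x : SL(3, F) | ∃ (i j : Fin 3) (h : i ≠ j) (c : F),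
        x = SpecialLinearGroup.transvection h c} ≤ H.comap A) (by rw [Cfsg.Lib.Linear.closure_transvection_eq_top]; trivial)
      rw [Subgroup.closure_le]
      rintro _ ⟨a, b, hab, t, rfl⟩
      show A (T hab t) ∈ H
      rw [hbase a b hab t]
      exact hXH _ _ t (Sum.inl_injective.ne hab)
    have hnorm : ∀ u, H ≤ H.comap (MulAut.conj (B u)).toMonoidHom := fun u => by
      show Subgroup.closure _ ≤ _
      rw [Subgroup.closure_le]
      rintro _ ⟨i, j, t, hij, rfl⟩
      show B u * X i j t * (B u)⁻¹ ∈ H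
      rw [hequiv u i j t hij]
      exact hXH _ _ _ (u.1.injective.ne hij)
    haveI hN : (H.comap B).Normal := ⟨fun n hn g => by
      show B (g * n * g⁻¹) ∈ H
      rw [map_mul, map_mul, map_inv]
      exact hnorm g hn⟩
    have hcN : ∀ v : alternatingGroup (Fin 3), Alt.extA Function.Embedding.inl v ∈ H.comap B := fun v => by
      have hc' : c3 ∈ H.comap B := by
        show B c3 ∈ H
        rw [r2]
        exact hAH _
      have h3v : v = 1 ∨ v = cA ∨ v = cA * cA := by revert v; decide
      rcases h3v with rfl | rfl | rfl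
      · rw [map_one]; exact one_mem _
      · exact hc'
      · rw [map_mul]; exact mul_mem hc' hc'
    have hBH : ∀ u, B u ∈ H := by
      have h3 : ∀ g : alternatingGroup (Pt d), Perm.IsThreeCycle g.1 → g ∈ H.comap B := by
        intro g hg
        have hcard : g.1.support.card = 3 := Perm.IsThreeCycle.card_support hg
        obtain ⟨f, hf⟩ := hcover g.1.support hcard.le
        obtain ⟨u, σ, hu⟩ := htri f
        obtain ⟨v, hv⟩ := exists_extA Function.Embedding.inl (u⁻¹ * g * u) (fun b hb => by
          rw [Subgroup.coe_mul, Subgroup.coe_mul, Subgroup.coe_inv, Perm.mul_apply, Perm.mul_apply, Perm.inv_eq_iff_eq]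
          refine Perm.notMem_support.1 fun hm => hb ?_
          obtain ⟨a, ha⟩ := hf _ hm
          rw [← hu a] at ha
          exact ⟨σ a, u.1.injective ha⟩)
        have := Subgroup.Normal.conj_mem hN _ (hv ▸ hcN v) u
        simpa [mul_assoc] using this
      have htop : H.comap B = ⊤ := by
        refine eq_top_iff.2 fun g _ => ?_
        have hg : (g.1 : Perm (Pt d)) ∈ (H.comap B).map (alternatingGroup (Pt d)).subtype := by
          refine (?_ : Subgroup.closure {σ : Perm (Pt d) | Perm.IsThreeCycle σ} ≤ _)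
            (by rw [Perm.closure_three_cycles_eq_alternating]; exact g.2)
          rw [Subgroup.closure_le]
          intro σ hσ
          exact ⟨⟨σ, Perm.IsThreeCycle.mem_alternatingGroup hσ⟩, h3 _ hσ, rfl⟩
        obtain ⟨g', hg', e⟩ := hg
        rwa [Subtype.ext e] at hg'
      exact fun u => (htop ▸ Subgroup.mem_top u : u ∈ H.comap B)
    -- the bound
    let eP : Pt d ≃ Fin (3 + (d + 1)) := finSumFinEquiv
    obtain ⟨e, -⟩ := Cfsg.Agent.S2401.result (K := F) (3 + (d + 1)) (by omega)
    let Y : {ij : Fin (3 + (d + 1)) × Fin (3 + (d + 1)) // ij.1 ≠ ij.2} × F → G :=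
      fun z => X (eP.symm z.1.1.1) (eP.symm z.1.1.2) z.2
    have hne : ∀ z : {ij : Fin (3 + (d + 1)) × Fin (3 + (d + 1)) // ij.1 ≠ ij.2},
        eP.symm z.1.1 ≠ eP.symm z.1.2 := fun z => eP.symm.injective.ne z.2
    let φ : SpecialLinearGroup (Fin (3 + (d + 1))) F →* G :=
      (PresentedGroup.toGroup (f := Y) (by
        rintro x ((⟨a, t, u, rfl⟩ | ⟨a, b, t, u, h1, h2, rfl⟩) | ⟨a, b, h, t, u, h1, rfl⟩)
        · simp only [map_mul, map_inv, FreeGroup.lift_apply_of, Y]
          rw [mul_inv_eq_one, rAdd _ _ (hne a)]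
        · simp only [map_mul, map_inv, FreeGroup.lift_apply_of, Y]
          rw [mul_inv_eq_one, mul_inv_eq_iff_eq_mul]
          exact rComm _ _ _ _ (hne a) (hne b) (eP.symm.injective.ne h1) (eP.symm.injective.ne h2) t u
        · simp only [map_mul, map_inv, FreeGroup.lift_apply_of, Y]
          have hbc : eP.symm a.1.2 ≠ eP.symm b.1.2 := by rw [h1]; exact hne b
          rw [h1] at hbc ⊢
          rw [mul_inv_eq_one, mul_inv_eq_iff_eq_mul, mul_inv_eq_iff_eq_mul]
          exact rProd _ _ _ (h1 ▸ hne a) hbc (eP.symm.injective.ne h) t u)).comp e.symm.toMonoidHom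
    have hφ : Function.Surjective φ := by
      rw [← MonoidHom.range_eq_top, eq_top_iff]
      refine le_trans (b := H) ?_ ?_
      · rw [← hgen, Subgroup.closure_le]
        rintro _ (⟨g, rfl⟩ | ⟨g, rfl⟩)
        exacts [hAH g, hBH g]
      · rw [Subgroup.closure_le]
        rintro _ ⟨i, j, t, hij, rfl⟩
        refine ⟨e (PresentedGroup.of (⟨(eP i, eP j), eP.injective.ne hij⟩, t)), ?_⟩
        simp only [φ, MonoidHom.comp_apply, MulEquiv.coe_toMonoidHom, MulEquiv.symm_apply_apply,
          PresentedGroup.toGroup.of, Y, Equiv.symm_apply_apply]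
    exact ⟨Finite.of_surjective φ hφ, (Nat.card_le_card_of_surjective φ hφ).trans
      (Nat.card_congr (rex eP).toEquiv).ge⟩

end Cfsg.Lib.Linear.ShortPres.SLN
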