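import Cfsg.Agent.Lib.Linear.ShortPres.Alt.Glue
import Cfsg.Agent.Lib.Linear.SLBasic

/-!
# Permutation matrices, blocks and transvections
-/

set_option autoImplicit false

namespace Cfsg.Lib.Linear.ShortPres.SLN

open Equiv Matrix

variable {α β : Type*} [Fintype α] [DecidableEq α] [Fintype β] [DecidableEq β] {F : Type*} [Field F]

/-- The transvection. -/
abbrev T {i j : α} (h : i ≠ j) (t : F) : SpecialLinearGroup α F := SpecialLinearGroup.transvection h t

theorem T_coe {i j : α} (h : i ≠ j) (t : F) : (T h t : Matrix α α F) = 1 + Matrix.single i j t := rfl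

theorem T_congr {i j i' j' : α} (h : i ≠ j) (t : F) (hi : i = i') (hj : j = j') :
    T h t = T (show i' ≠ j' by rw [← hi, ← hj]; exact h) t := by subst hi hj; rfl

theorem T_add {i j : α} (h : i ≠ j) (t u : F) : T h t * T h u = T h (t + u) :=
  Subtype.ext (Matrix.transvection_mul_transvection_same i j h t u)

theorem T_comm {i j k l : α} (hij : i ≠ j) (hkl : k ≠ l) (hil : i ≠ l) (hjk : j ≠ k) (t u : F) :
    T hij t * T hkl u = T hkl u * T hij t := by
  refine Subtype.ext ?_
  show Matrix.transvection i j t * Matrix.transvection k l u = Matrix.transvection k l u * Matrix.transvection i j t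
  simp [Matrix.transvection, mul_add, add_mul, hjk, hil.symm]
  abel

theorem T_prod {i j k : α} (hij : i ≠ j) (hjk : j ≠ k) (hik : i ≠ k) (t u : F) :
    T hij t * T hjk u = T hik (t * u) * T hjk u * T hij t := by
  refine Subtype.ext ?_
  show Matrix.transvection i j t * Matrix.transvection j k u =
    Matrix.transvection i k (t * u) * Matrix.transvection j k u * Matrix.transvection i j t
  simp [Matrix.transvection, mul_add, add_mul, hij, hjk, hik, hij.symm, hjk.symm, hik.symm]
  abel

theorem hom_ext {M : Type*} [Monoid M] {φ ψ : SpecialLinearGroup α F →* M}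
    (h : ∀ (i j : α) (hij : i ≠ j) (t : F), φ (T hij t) = ψ (T hij t)) : φ = ψ :=
  MonoidHom.eq_of_eqOn_dense (Cfsg.Lib.Linear.closure_transvection_eq_top (ι := α) (F := F))
    (by rintro _ ⟨i, j, hij, t, rfl⟩; exact h i j hij t)

/-- Relabelling. -/
def rex (e : α ≃ β) : SpecialLinearGroup α F ≃* SpecialLinearGroup β F where
  toFun g := ⟨g.1.submatrix e.symm e.symm, by rw [Matrix.det_submatrix_equiv_self]; exact g.2⟩
  invFun g := ⟨g.1.submatrix e e, by rw [Matrix.det_submatrix_equiv_self]; exact g.2⟩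
  left_inv g := Subtype.ext (by ext a b; simp)
  right_inv g := Subtype.ext (by ext a b; simp)
  map_mul' g h := Subtype.ext (by
    show (g.1 * h.1).submatrix e.symm e.symm = g.1.submatrix e.symm e.symm * h.1.submatrix e.symm e.symm
    rw [Matrix.submatrix_mul_equiv])

theorem rex_coe (e : α ≃ β) (g : SpecialLinearGroup α F) :
    (rex e g : Matrix β β F) = (g : Matrix α α F).submatrix e.symm e.symm := rfl

theorem rex_T (e : α ≃ β) {i j : α} (h : i ≠ j) (t : F) : rex e (T h t) = T (e.injective.ne h) t := by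
  refine Subtype.ext ?_
  ext a b
  simp [rex_coe, T_coe, Matrix.one_apply, Matrix.single_apply, Equiv.eq_symm_apply]

variable (β) in
/-- Block embedding. -/
def blk : SpecialLinearGroup α F →* SpecialLinearGroup (α ⊕ β) F :=
  MonoidHom.mk' (fun g => ⟨fromBlocks g.1 0 0 1, by rw [det_fromBlocks_zero₂₁, g.2, det_one, mul_one]⟩)
    fun g h => Subtype.ext (by
      show fromBlocks (g.1 * h.1) 0 0 1 = fromBlocks g.1 0 0 1 * fromBlocks h.1 0 0 (1 : Matrix β β F)
      simp [fromBlocks_multiply])

theorem blk_coe (g : SpecialLinearGroup α F) :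
    (blk β g : Matrix (α ⊕ β) (α ⊕ β) F) = fromBlocks (g : Matrix α α F) 0 0 1 := rfl

theorem blk_T {i j : α} (h : i ≠ j) (t : F) : blk β (T h t) = T (Sum.inl_injective.ne h) t := by
  refine Subtype.ext ?_
  ext (a | a) (b | b) <;> simp [blk_coe, T_coe, Matrix.one_apply, Matrix.single_apply]

theorem one_submatrix_mul (f : α → α) (X : Matrix α α F) (i k : α) :
    ((1 : Matrix α α F).submatrix f id * X) i k = X (f i) k := by
  simp [Matrix.mul_apply, Matrix.one_apply]

/-- Permutation matrices of even permutations. -/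
def pm : alternatingGroup α →* SpecialLinearGroup α F :=
  MonoidHom.mk' (fun s => ⟨(1 : Matrix α α F).submatrix ⇑(s.1⁻¹) id, by
      rw [Matrix.det_permute, Perm.sign_inv, Perm.mem_alternatingGroup.1 s.2, Matrix.det_one]; simp⟩)
    fun a b => Subtype.ext (by
      ext i k
      show (1 : Matrix α α F) ((a.1 * b.1)⁻¹ i) k =
        (((1 : Matrix α α F).submatrix ⇑(a.1⁻¹) id) * ((1 : Matrix α α F).submatrix ⇑(b.1⁻¹) id) : Matrix α α F) i k
      rw [one_submatrix_mul, _root_.mul_inv_rev]
      rfl)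

theorem pm_apply (s : alternatingGroup α) (i j : α) :
    (pm s : SpecialLinearGroup α F).1 i j = if s.1⁻¹ i = j then 1 else 0 := by
  show (1 : Matrix α α F) (s.1⁻¹ i) j = _
  rw [Matrix.one_apply]

theorem pm_conj_T (s : alternatingGroup α) {i j : α} (h : i ≠ j) (t : F) :
    pm s * T h t * (pm s)⁻¹ = T (s.1.injective.ne h) t := by
  rw [mul_inv_eq_iff_eq_mul]
  refine Subtype.ext ?_
  show (pm s : SpecialLinearGroup α F).1 * Matrix.transvection i j t =
    Matrix.transvection (s.1 i) (s.1 j) t * (pm s : SpecialLinearGroup α F).1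
  ext a b
  rw [show (pm s : SpecialLinearGroup α F).1 = (1 : Matrix α α F).submatrix ⇑(s.1⁻¹) id from rfl, one_submatrix_mul,
    Matrix.mul_apply, Finset.sum_eq_single (s.1 b) (fun c _ hc => by
      simp only [Matrix.submatrix_apply, id, Matrix.one_apply]
      rw [if_neg (fun e => hc (Perm.inv_eq_iff_eq.1 e)), mul_zero]) (fun h => absurd (Finset.mem_univ _) h)]
  simp [Matrix.transvection, Matrix.one_apply, Matrix.single_apply, Perm.inv_eq_iff_eq]
  by_cases ha : s.1 i = a <;> by_cases hb : j = b <;> simp [ha, hb, Equiv.eq_symm_apply, Equiv.symm_apply_eq, eq_comm]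

theorem pm_extA_inl (u : alternatingGroup α) :
    (pm (Alt.extA (Function.Embedding.inl : α ↪ α ⊕ β) u) : SpecialLinearGroup (α ⊕ β) F) = blk β (pm u) := by
  refine Subtype.ext ?_
  have hl : ∀ a, (Alt.extA (Function.Embedding.inl : α ↪ α ⊕ β) u).1 (Sum.inl a) = Sum.inl (u.1 a) :=
    fun a => Alt.extA_apply _ u a
  have hr : ∀ b, (Alt.extA (Function.Embedding.inl : α ↪ α ⊕ β) u).1 (Sum.inr b) = Sum.inr b :=
    fun b => Alt.extA_apply_of_notMem _ u (by simp)
  have hu : ∀ a, (Alt.extA (Function.Embedding.inl : α ↪ α ⊕ β) u).1⁻¹ (Sum.inl a) = Sum.inl (u.1⁻¹ a) := fun a => by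
    rw [Perm.inv_eq_iff_eq, hl, Perm.coe_inv, Equiv.apply_symm_apply]
  have hu' : ∀ b, (Alt.extA (Function.Embedding.inl : α ↪ α ⊕ β) u).1⁻¹ (Sum.inr b) = Sum.inr b := fun b => by
    rw [Perm.inv_eq_iff_eq, hr]
  ext (a | a) (b | b) <;>
    simp only [pm_apply, blk_coe, hu, hu', fromBlocks_apply₁₁, fromBlocks_apply₁₂, fromBlocks_apply₂₁,
      fromBlocks_apply₂₂] <;> simp [Matrix.one_apply]

theorem exists_extA (e : α ↪ β) (g : alternatingGroup β) (h : ∀ b ∉ Set.range e, g.1 b = b) :
    ∃ u, Alt.extA e u = g := by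
  classical
  have hmem : ∀ b, b ∈ Set.range e ↔ g.1 b ∈ Set.range e := fun b => by
    by_cases hb : b ∈ Set.range e
    · simp only [hb, true_iff]
      by_contra hc
      have := g.1.injective (h _ hc)
      exact hc (by rwa [this])
    · simp only [hb, h b hb]
  let σ : Perm α := (Equiv.ofInjective e e.injective).symm.permCongr (g.1.subtypePerm (fun b => (hmem b).symm))
  have hσ : ∀ a, e (σ a) = g.1 (e a) := fun a => by
    simp [σ, Equiv.permCongr_apply, Equiv.apply_ofInjective_symm e.injective]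
  have hext : σ.extendDomain (Equiv.ofInjective e e.injective) = g.1 := Equiv.ext fun b => by
    by_cases hb : b ∈ Set.range e
    · obtain ⟨a, rfl⟩ := hb
      exact (Perm.extendDomain_apply_image σ (Equiv.ofInjective e e.injective) a).trans (hσ a)
    · rw [Perm.extendDomain_apply_not_subtype σ (Equiv.ofInjective e e.injective) hb, h b hb]
  refine ⟨⟨σ, Perm.mem_alternatingGroup.2 ?_⟩, Alt.extA_ext (fun a => (hσ a).symm) h⟩
  rw [← Perm.sign_extendDomain σ (Equiv.ofInjective e e.injective), hext]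
  exact Perm.mem_alternatingGroup.1 g.2

theorem exists_even (π₀ : Perm α) {a b : α} (hab : a ≠ b) :
    ∃ π : alternatingGroup α, (π.1 = π₀ ∨ π.1 = π₀ * swap a b) := by
  rcases Int.units_eq_one_or (Perm.sign π₀) with h | h
  · exact ⟨⟨π₀, Perm.mem_alternatingGroup.2 h⟩, Or.inl rfl⟩
  · exact ⟨⟨π₀ * swap a b, Perm.mem_alternatingGroup.2 (by rw [Perm.sign_mul, Perm.sign_swap hab, h]; rfl)⟩,
      Or.inr rfl⟩

theorem commute_of_sets {P Q G : Type*} [Group P] [Group Q] [Group G] (φ : P →* G) (ψ : Q →* G) {S : Set P}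
    {T : Set Q} (hS : Subgroup.closure S = ⊤) (hT : Subgroup.closure T = ⊤)
    (h : ∀ u ∈ S, ∀ v ∈ T, φ u * ψ v = ψ v * φ u) (u : P) (v : Q) : φ u * ψ v = ψ v * φ u := by
  have h1 : ∀ u ∈ S, ∀ v, φ u * ψ v = ψ v * φ u := by
    intro u hu v
    have hv : v ∈ (Subgroup.centralizer ({φ u} : Set G)).comap ψ := by
      refine (?_ : Subgroup.closure T ≤ _) (hT ▸ Subgroup.mem_top v)
      rw [Subgroup.closure_le]
      exact fun w hw => Subgroup.mem_centralizer_singleton_iff.2 (h u hu w hw).symm
    exact (Subgroup.mem_centralizer_singleton_iff.1 hv).symm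
  have hu : u ∈ (Subgroup.centralizer ({ψ v} : Set G)).comap φ := by
    refine (?_ : Subgroup.closure S ≤ _) (hS ▸ Subgroup.mem_top u)
    rw [Subgroup.closure_le]
    exact fun w hw => Subgroup.mem_centralizer_singleton_iff.2 (h1 w hw v)
  exact Subgroup.mem_centralizer_singleton_iff.1 hu

end Cfsg.Lib.Linear.ShortPres.SLN
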