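import Cfsg.Agent.Lib.Linear.ShortPres.SLN.Main
import Cfsg.Agent.S2279
import Cfsg.Agent.S0801

/-!
# Two generators and at most eighty relators for `PSL`
-/

set_option autoImplicit false

namespace Cfsg.Lib.Linear.ShortPres.SLN

open Matrix
open scoped MatrixGroups

/-- A quotient by a subgroup generated by one element. -/
theorem bdd_quotient {M : Type*} [Group M] [Finite M] {r : ℕ} (h : Bdd M r) (N : Subgroup M) [N.Normal] (z : M)
    (hz : Subgroup.closure ({z} : Set M) = N) : Bdd (M ⧸ N) (r + 2) := by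
  have hbot : Bdd (⊥ : Subgroup M) 1 := Bdd.of_gen 1 (eq_top_iff.2 fun g _ => by
    rw [Subsingleton.elim g 1]; exact one_mem _)
  refine (h.combine hbot (QuotientGroup.mk' N) 1 ?_ [(FreeGroup.of (Sum.inl z), 1)] ?_ ?_)
  · refine eq_top_iff.2 fun g _ => Subgroup.subset_closure (Or.inl ?_)
    exact QuotientGroup.mk'_surjective N g
  · intro e he
    rw [List.mem_singleton] at he
    subst he
    simp only [FreeGroup.lift_apply_of, map_one, Sum.elim_inl, QuotientGroup.mk'_apply, QuotientGroup.eq_one_iff]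
    rw [← hz]
    exact Subgroup.subset_closure rfl
  · intro G _ A B hgen hrel
    have hAz := hrel _ (List.mem_singleton.2 rfl)
    simp only [FreeGroup.lift_apply_of, map_one, Sum.elim_inl] at hAz
    have hN : N ≤ A.ker := by
      rw [← hz, Subgroup.closure_le, Set.singleton_subset_iff]
      exact hAz
    have hs : Function.Surjective (QuotientGroup.lift N A hN) := by
      rw [← MonoidHom.range_eq_top, eq_top_iff, ← hgen, Subgroup.closure_le]
      rintro _ (⟨m, rfl⟩ | ⟨m, rfl⟩)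
      · exact ⟨(m : M ⧸ N), rfl⟩
      · exact ⟨1, by rw [map_one, Subsingleton.elim m 1, map_one]⟩
    exact ⟨Finite.of_surjective _ hs, Nat.card_le_card_of_surjective _ hs⟩

theorem psl_of_sl {n r : ℕ} [NeZero n] {F : Type*} [Field F] [Finite F]
    (h : Bdd (SpecialLinearGroup (Fin n) F) r) : Bdd (ProjectiveSpecialLinearGroup (Fin n) F) (r + 2) := by
  haveI : NeZero (Fintype.card (Fin n)) := ⟨by simp [NeZero.ne n]⟩
  haveI : IsCyclic (Subgroup.center (SpecialLinearGroup (Fin n) F)) :=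
    isCyclic_of_surjective _ (SpecialLinearGroup.center_equiv_rootsOfUnity (n := Fin n) (R := F)).symm.surjective
  obtain ⟨z, hz⟩ := IsCyclic.exists_generator (α := Subgroup.center (SpecialLinearGroup (Fin n) F))
  refine bdd_quotient h _ z.1 (le_antisymm ?_ fun x hx => ?_)
  · rw [Subgroup.closure_le, Set.singleton_subset_iff]
    exact z.2
  · obtain ⟨k, hk⟩ := Subgroup.mem_zpowers_iff.1 (hz ⟨x, hx⟩)
    have : (z.1 : SpecialLinearGroup (Fin n) F) ^ k = x := by rw [← Subgroup.coe_zpow, hk]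
    rw [← this]
    exact Subgroup.zpow_mem _ (Subgroup.subset_closure (Set.mem_singleton z.1)) k

theorem psl_two_gen {n r : ℕ} {F : Type*} [Field F] [Finite F] (h : Bdd (ProjectiveSpecialLinearGroup (Fin n) F) r)
    (hr : r ≤ 78) {a b : SpecialLinearGroup (Fin n) F} (hab : Subgroup.closure ({a, b} : Set _) = ⊤) :
    ∃ rels : Finset (FreeGroup (Fin 2)), rels.card ≤ 80 ∧
      Nonempty (PresentedGroup (↑rels : Set (FreeGroup (Fin 2))) ≃* ProjectiveSpecialLinearGroup (Fin n) F) := by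
  obtain ⟨R, hR, e, -⟩ := h.two_generated (QuotientGroup.mk' _ a) (QuotientGroup.mk' _ b) (by
    rw [← Set.image_pair, ← MonoidHom.map_closure, hab]
    exact Subgroup.map_top_of_surjective _ (QuotientGroup.mk'_surjective _))
  exact ⟨R, hR.trans (by omega), ⟨e⟩⟩

theorem sl_two_pair {F : Type*} [Field F] [Fintype F] (hq : 4 ≤ Fintype.card F) :
    ∃ a b : SL(2, F), Subgroup.closure ({a, b} : Set SL(2, F)) = ⊤ := by
  classical
  obtain ⟨ζ, hζ⟩ := IsCyclic.exists_generator (α := Fˣ)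
  have hpow : ∀ c : F, c ≠ 0 → ∃ i : ℕ, (ζ : F) ^ i = c := fun c hc => by
    obtain ⟨i, hi⟩ := mem_powers_iff_mem_zpowers.2 (hζ (Units.mk0 c hc))
    exact ⟨i, by rw [← Units.val_pow_eq_pow_val]; exact congrArg Units.val hi⟩
  have hord : orderOf (ζ : F) = Fintype.card F - 1 := by
    rw [orderOf_units, orderOf_eq_card_of_forall_mem_zpowers hζ, Nat.card_units, Nat.card_eq_fintype_card]
  by_cases h2 : (2 : F) = 0
  · haveI : CharP F 2 := by
      obtain ⟨p, hp⟩ := CharP.exists F
      have h : p ∣ 2 := (CharP.cast_eq_zero_iff F p 2).1 (by exact_mod_cast h2)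
      rcases (Nat.dvd_prime Nat.prime_two).1 h with rfl | rfl
      · exact absurd rfl (CharP.char_ne_one F 1)
      · exact hp
    haveI : Fact (Nat.Prime 2) := ⟨Nat.prime_two⟩
    refine ⟨xs 1 * ts, ds ζ, ?_⟩
    set S := Subgroup.closure ({xs 1 * ts, ds ζ} : Set SL(2, F))
    have ha : xs 1 * ts ∈ S := Subgroup.subset_closure (Or.inl rfl)
    have hb : ds ζ ∈ S := Subgroup.subset_closure (Or.inr rfl)
    set s : F := ((ζ⁻¹ : Fˣ) : F) with hs
    have hrs : (ζ : F) * s = 1 := by rw [hs, ← Units.val_mul, mul_inv_cancel, Units.val_one]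
    have hc : (xs 1 * ts) * ds ζ * (xs 1 * ts)⁻¹ * ds ζ = xs (1 + s ^ 2) := by
      refine Subtype.ext ?_
      ext i j
      fin_cases i <;> fin_cases j <;>
        simp [Matrix.mul_apply, Fin.sum_univ_two, xs_coe, ts_coe, ds_coe, Matrix.SpecialLinearGroup.coe_mul,
          Matrix.SpecialLinearGroup.coe_inv, Matrix.adjugate_fin_two, ← hs, CharTwo.neg_eq] <;>
        linear_combination hrs
    have hne : (1 : F) + s ^ 2 ≠ 0 := by
      intro e
      have h1 : (1 + s) ^ 2 = 0 := by rw [CharTwo.add_sq, one_pow]; exact e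
      have hs1 : s = 1 := by
        have := eq_zero_of_pow_eq_zero h1
        linear_combination this - (CharTwo.two_eq_zero (R := F))
      rw [hs1, mul_one] at hrs
      rw [hrs, orderOf_one] at hord
      omega
    have hmem : xs (1 + s ^ 2) ∈ S := hc ▸ mul_mem (mul_mem (mul_mem ha hb) (inv_mem ha)) hb
    have hall : ∀ c : F, xs c ∈ S := by
      intro c
      rcases eq_or_ne c 0 with rfl | hc0
      · rw [xs_zero]; exact one_mem _
      obtain ⟨e, he⟩ : ∃ e : F, e ^ 2 = c / (1 + s ^ 2) := by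
        obtain ⟨e, he⟩ := FiniteField.isSquare_of_char_two (ringChar.eq F 2) (c / (1 + s ^ 2))
        exact ⟨e, by rw [pow_two]; exact he.symm⟩
      obtain ⟨i, hi⟩ := hpow e (fun h => by
        subst h
        rw [zero_pow (by norm_num)] at he
        exact (div_ne_zero hc0 hne) he.symm)
      have key : xs c = ds ζ ^ i * xs (1 + s ^ 2) * (ds ζ ^ i)⁻¹ := by
        rw [← ds_pow, ds_conj, Units.val_pow_eq_pow_val, hi, he, div_mul_cancel₀ _ hne]
      rw [key]
      exact mul_mem (mul_mem (pow_mem hb i) hmem) (inv_mem (pow_mem hb i))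
    refine closure_gens hall ?_
    have : (ts : SL(2, F)) = (xs 1)⁻¹ * (xs 1 * ts) := by simp
    rw [this]
    exact mul_mem (inv_mem (hall 1)) ha
  · have hlam : (ζ : F) ≠ 0 := ζ.ne_zero
    have hgen : Subfield.closure ({(ζ : F)} : Set F) = ⊤ := by
      refine eq_top_iff.2 fun c _ => ?_
      rcases eq_or_ne c 0 with rfl | hc
      · exact zero_mem _
      obtain ⟨i, rfl⟩ := hpow c hc
      exact pow_mem (Subfield.subset_closure (Set.mem_singleton (ζ : F))) i
    rcases Cfsg.Agent.S0801.result h2 (ζ : F) hlam hgen with ⟨htop, -⟩ | ⟨h9, hsq, -⟩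
    · refine ⟨⟨!![1, 0; 1, 1], by simp [det_fin_two]⟩, ⟨!![1, (ζ : F); 0, 1], by simp [det_fin_two]⟩, ?_⟩
      rw [eq_top_iff, ← htop]
      refine Subgroup.closure_mono ?_
      rintro g (hg | hg)
      · exact Or.inl (Subtype.ext hg)
      · exact Or.inr (Subtype.ext hg)
    · exfalso
      have h4 : (ζ : F) ^ 4 = 1 := by linear_combination ((ζ : F) ^ 2 - 1) * hsq
      have := Nat.le_of_dvd (by norm_num) (orderOf_dvd_of_pow_eq_one h4)
      omega

theorem psl_eighty {F : Type*} [Field F] [Fintype F] (n : ℕ) (hn : 2 ≤ n) (h2 : n = 2 → 4 ≤ Fintype.card F) :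
    ∃ rels : Finset (FreeGroup (Fin 2)), rels.card ≤ 80 ∧
      Nonempty (PresentedGroup (↑rels : Set (FreeGroup (Fin 2))) ≃* ProjectiveSpecialLinearGroup (Fin n) F) := by
  classical
  rcases Nat.lt_or_ge n 3 with h | h3
  · obtain rfl : n = 2 := by omega
    obtain ⟨-, ⟨R, hR, he⟩, -⟩ := Cfsg.Agent.S2286.result (F := F)
    obtain ⟨a, b, hab⟩ := sl_two_pair (h2 rfl)
    exact psl_two_gen (r := 9) ⟨3, R, hR, he⟩ (by norm_num) hab
  rcases Nat.lt_or_ge n 4 with h | h4
  · obtain rfl : n = 3 := by omega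
    obtain ⟨p, hp⟩ := CharP.exists F
    haveI : Fact p.Prime := ⟨CharP.char_is_prime F p⟩
    obtain ⟨R, hR, he⟩ := Three.present_SL_three (F := F) p
    obtain ⟨u, g, -, -, hab⟩ := Cfsg.Agent.S2278.result (F := F)
    exact psl_two_gen (psl_of_sl (r := 14) ⟨4, R, hR, he⟩) (by norm_num) hab
  obtain ⟨d, rfl⟩ := Nat.exists_eq_add_of_le h4
  obtain ⟨⟨u, v, -, -, hab⟩, -⟩ := Cfsg.Agent.S2279.result (F := F) (4 + d) h4
  have e : Pt d ≃ Fin (4 + d) := Fintype.equivFinOfCardEq (by
    simp only [Fintype.card_sum, Fintype.card_fin]; omega)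
  haveI : NeZero (4 + d) := ⟨by omega⟩
  exact psl_two_gen (psl_of_sl ((bdd_SL (F := F) d).of_equiv (rex e))) (by norm_num) hab

end Cfsg.Lib.Linear.ShortPres.SLN
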